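import Cfsg.Agent.H199.TI.Cond

/-!
# S4819/S4820, row `PSL₃(4)`: the condition on the stabiliser from the central count `CL` (helper199)
-/

set_option autoImplicit false
set_option linter.style.haveILetI false
set_option linter.unusedSectionVars false

open Cfsg
open scoped Pointwise ComplexConjugate

namespace Cfsg.Agent.H199.TI

open Cfsg.Agent.Characters.Core Cfsg.Agent.H672 Cfsg.Agent.H672.RM Cfsg.Agent.H595.Central Cfsg.Agent.H681.TI
open Cfsg.Agent.H723.TI (TIs)
open Cfsg.Agent.H155.TI (CL CenSit le_norm)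

universe u v w

section count
variable {G : Type u} [Group G] [Finite G] {K T : Subgroup G} [hKn : K.Normal] {θ : K → ℂ} {A : Type u} [Group A]
  [Finite A] {π : A →* T} {s : K →* A} {χR : A → ℂ}

theorem mem_norm_subtype {p : ℕ} (P : Sylow p G) (hPT : (P : Subgroup G) ≤ T) (t : T) :
    t ∈ Subgroup.normalizer (((P.subtype hPT : Sylow p T) : Subgroup T) : Set T) ↔
      (t : G) ∈ Subgroup.normalizer ((P : Subgroup G) : Set G) := by
  constructor
  · intro h
    rw [Subgroup.mem_normalizer_iff] at h ⊢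
    intro y
    constructor
    · intro hy
      exact (h ⟨y, hPT hy⟩).1 hy
    · intro hy
      have h1 : y ∈ T := by
        have h2 := T.mul_mem (T.mul_mem (T.inv_mem t.2) (hPT hy)) t.2
        have h3 : (t : G)⁻¹ * ((t : G) * y * (t : G)⁻¹) * t = y := by group
        rwa [h3] at h2
      exact (h ⟨y, h1⟩).2 hy
  · intro h
    rw [Subgroup.mem_normalizer_iff] at h ⊢
    intro y
    exact h y

theorem dz_iff9 [Finite T] (P : Sylow 3 G) (h9 : Nat.card (P : Subgroup G) = 9) (hPT : (P : Subgroup G) ≤ T)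
    {χ : T → ℂ} (hχ : IsIrrCharacter T χ) : DZ 3 χ ↔ 9 ∣ charDegree χ := by
  haveI : Fact (Nat.Prime 3) := ⟨Nat.prime_three⟩
  have h1 : (Nat.card T).factorization 3 = 2 := by
    have h2 := (P.subtype hPT).card_eq_multiplicity
    have h3 : Nat.card ((P.subtype hPT : Sylow 3 T) : Subgroup T) = 9 := by
      rw [← h9]
      exact Nat.card_congr (Subgroup.subgroupOfEquivOfLe hPT).toEquiv
    rw [h3] at h2
    have h4 : (3 : ℕ) ^ 2 = 3 ^ (Nat.card T).factorization 3 := by rw [← h2]; norm_num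
    exact (Nat.pow_right_injective (le_refl 2 |>.trans (by norm_num)) h4).symm
  have h0 := (Blocks.Basic.charDegree_pos hχ).ne'
  have h5 := factorization_le (p := 3) hχ
  rw [h1] at h5
  unfold DZ
  rw [h1, show (9 : ℕ) = 3 ^ 2 by norm_num, Nat.prime_three.pow_dvd_iff_le_factorization h0]
  omega

end count

section main
variable {G : Type u} [Group G] [Finite G] {K T : Subgroup G} [hKn : K.Normal] {θ : K → ℂ} {A : Type u} [Group A]
  [Finite A] {π : A →* T} {s : K →* A} {χR : A → ℂ}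

/-- The count at the level of `T`. -/
theorem Dat.count1 (h : Dat 3 K T θ A π s χR) (hKT : K ≤ T) (hK : ¬ 3 ∣ Nat.card K) (hθ : IsIrrCharacter K θ)
    [hsn : s.range.Normal] {c : π.ker →* ℂˣ} (hc : ∀ (x : A) (z : π.ker), χR (x * z) = χR x * c z)
    (Z : Subgroup (A ⧸ s.range)) (hZc : Z ≤ Subgroup.center (A ⧸ s.range))
    (ez : π.ker ≃* Z) (hez : ∀ z, ((ez z : Z) : A ⧸ s.range) = QuotientGroup.mk' s.range (z : A))
    (P : Sylow 3 G) (h9 : Nat.card (P : Subgroup G) = 9) (hPT : (P : Subgroup G) ≤ T) :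
    cND 3 (Subgroup.inclusion hKT) θ = Nat.card {χ : IrrCharacter (A ⧸ s.range) //
      H155.TI.Over Z.subtype (c⁻¹.comp ez.symm.toMonoidHom) (χ : A ⧸ s.range → ℂ) ∧
        ¬ 9 ∣ charDegree (χ : A ⧸ s.range → ℂ)} := by
  classical
  have t1 : TSet π (QuotientGroup.mk' s.range) s χR θ c :=
    { surjπ := h.surj, surjm := QuotientGroup.mk'_surjective _, inj := h.inj
      range := (QuotientGroup.ker_mk' _).symm, cen := h.cen, irrR := h.irr, irrθ := hθ, ext := h.ext, hc := hc }
  obtain ⟨F, hF⟩ := tset_equiv t1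
  have e0 : π.comp s = Subgroup.inclusion hKT := by
    ext k
    exact h.sec k
  have hcen : ∀ z : π.ker, ((QuotientGroup.mk' s.range).comp π.ker.subtype) z ∈ Subgroup.center (A ⧸ s.range) := by
    intro z
    rw [MonoidHom.comp_apply, Subgroup.subtype_apply, ← hez]
    exact hZc (ez z).2
  have hov : ∀ β : IrrCharacter (A ⧸ s.range),
      Over ((QuotientGroup.mk' s.range).comp π.ker.subtype) (β : A ⧸ s.range → ℂ) (lf c⁻¹) ↔
        H155.TI.Over Z.subtype (c⁻¹.comp ez.symm.toMonoidHom) (β : A ⧸ s.range → ℂ) := by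
    intro β
    refine over_iff_over _ hcen c⁻¹ β.2 _ (fun h1 z => ?_) (fun h1 y w => ?_)
    · have h2 := h1 (ez z) 1
      rw [mul_one] at h2
      change (β : A ⧸ s.range → ℂ) ((ez z : Z) : A ⧸ s.range) = ((c⁻¹ (ez.symm (ez z)) : ℂˣ) : ℂ) * _ at h2
      rw [MulEquiv.symm_apply_apply, hez] at h2
      exact h2
    · have h2 := h1 (ez.symm y) w
      change (β : A ⧸ s.range → ℂ) (QuotientGroup.mk' s.range ((ez.symm y : π.ker) : A) * w) = _ at h2
      rw [← hez, MulEquiv.apply_symm_apply] at h2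
      exact h2
  unfold cND
  rw [← e0]
  symm
  refine Nat.card_congr ?_
  refine Equiv.trans (Equiv.subtypeSubtypeEquivSubtypeInter _ _).symm (Equiv.trans ?_
    (Equiv.subtypeSubtypeEquivSubtypeInter _ _))
  refine ((Equiv.subtypeEquivRight fun β => (hov β).symm).trans F).subtypeEquiv fun β => not_congr ?_
  rw [dz_iff9 P h9 hPT (((Equiv.subtypeEquivRight fun β => (hov β).symm).trans F) β).1.2, Equiv.trans_apply, hF]
  have h3 : ¬ 3 ∣ charDegree θ := fun h4 => hK (h4.trans (Blocks.Knorr.charDegree_dvd hθ))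
  have h4 : Nat.Coprime 9 (charDegree θ) := by
    rw [show (9 : ℕ) = 3 ^ 2 by norm_num]
    exact Nat.Coprime.pow_left _ ((Nat.Prime.coprime_iff_not_dvd Nat.prime_three).2 h3)
  exact ⟨fun h5 => h5.mul_right _, fun h5 => h4.dvd_of_dvd_mul_right h5⟩

/-- The count at the level of the normalizer. -/
theorem Dat.count2 (h : Dat 3 K T θ A π s χR) (hKT : K ≤ T) (hθ : IsIrrCharacter K θ)
    [hsn : s.range.Normal] {c : π.ker →* ℂˣ} (hc : ∀ (x : A) (z : π.ker), χR (x * z) = χR x * c z)
    (Z : Subgroup (A ⧸ s.range)) (hZc : Z ≤ Subgroup.center (A ⧸ s.range))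
    (ez : π.ker ≃* Z) (hez : ∀ z, ((ez z : Z) : A ⧸ s.range) = QuotientGroup.mk' s.range (z : A))
    (U : Subgroup G) (hKU : K ≤ U) (R : Subgroup (A ⧸ s.range)) (hZR : Z ≤ R)
    (hR : ∀ a : A, QuotientGroup.mk' s.range a ∈ R ↔ (π a : G) ∈ U) :
    cAll (Subgroup.inclusion (le_inf hKU hKT)) θ = Nat.card {χ : IrrCharacter R //
      H155.TI.Over (Subgroup.inclusion hZR) (c⁻¹.comp ez.symm.toMonoidHom) (χ : R → ℂ)} := by
  classical
  let AN : Subgroup A := U.comap (T.subtype.comp π)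
  have hAN : ∀ a : A, a ∈ AN ↔ (π a : G) ∈ U := fun a => Iff.rfl
  let πN : AN →* (U ⊓ T : Subgroup G) :=
    { toFun := fun a => ⟨π a, a.2, (π a).2⟩
      map_one' := Subtype.ext (congrArg (fun t : T => (t : G)) (map_one π) :)
      map_mul' := fun a b => Subtype.ext (congrArg (fun t : T => (t : G)) (map_mul π (a : A) (b : A)) :) }
  have hπN : ∀ a : AN, ((πN a : (U ⊓ T : Subgroup G)) : G) = π a := fun a => rfl
  let mN : AN →* R :=
    { toFun := fun a => ⟨QuotientGroup.mk' s.range a, (hR a).2 a.2⟩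
      map_one' := Subtype.ext (map_one _)
      map_mul' := fun a b => Subtype.ext (map_mul (QuotientGroup.mk' s.range) (a : A) (b : A)) }
  have hmN : ∀ a : AN, ((mN a : R) : A ⧸ s.range) = QuotientGroup.mk' s.range a := fun a => rfl
  let sN : K →* AN := s.codRestrict AN (fun k => by
    rw [hAN, h.sec]; exact hKU k.2)
  have hsN : ∀ k, ((sN k : AN) : A) = s k := fun k => rfl
  have hker : ∀ z : πN.ker, ((z : AN) : A) ∈ π.ker := by
    intro z
    rw [MonoidHom.mem_ker]
    exact Subtype.ext (congrArg (fun t : (U ⊓ T : Subgroup G) => (t : G)) (MonoidHom.mem_ker.1 z.2) :)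
  let g : πN.ker →* π.ker := (AN.subtype.comp πN.ker.subtype).codRestrict π.ker hker
  have hg : ∀ z, ((g z : π.ker) : A) = ((z : AN) : A) := fun z => rfl
  let cN : πN.ker →* ℂˣ := c.comp g
  have hirr : IsIrrCharacter AN (fun a : AN => χR a) := by
    refine CharactersDeep.MaxInduced.isIrr_of_comp sN (isCharacter_comp AN.subtype (isIrr_isCharacter h.irr)) ?_
    have h1 : (fun a : AN => χR a) ∘ sN = θ := funext h.ext
    rw [h1]
    exact hθ
  have t2 : TSet πN mN sN (fun a : AN => χR a) θ cN := by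
    refine ⟨?_, ?_, ?_, ?_, ?_, hirr, hθ, h.ext, fun x z => hc x (g z)⟩
    · rintro ⟨y, hy1, hy2⟩
      obtain ⟨a, ha⟩ := h.surj ⟨y, hy2⟩
      refine ⟨⟨a, ?_⟩, ?_⟩
      · rw [hAN, ha]; exact hy1
      · apply Subtype.ext
        rw [hπN, ha]
    · rintro ⟨y, hy⟩
      obtain ⟨a, rfl⟩ := QuotientGroup.mk'_surjective _ y
      exact ⟨⟨a, (hR a).1 hy⟩, rfl⟩
    · intro k k' hkk
      exact h.inj (congrArg Subtype.val hkk)
    · ext a
      rw [MonoidHom.mem_ker]
      constructor
      · rintro ⟨k, rfl⟩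
        apply Subtype.ext
        rw [hmN, hsN]
        exact (QuotientGroup.eq_one_iff _).2 ⟨k, rfl⟩
      · intro ha
        have h1 : QuotientGroup.mk' s.range (a : A) = 1 := congrArg Subtype.val ha
        obtain ⟨k, hk⟩ := (QuotientGroup.eq_one_iff _).1 h1
        exact ⟨k, Subtype.ext hk⟩
    · intro z hz
      rw [Subgroup.mem_center_iff]
      intro x
      exact Subtype.ext (Subgroup.mem_center_iff.1 (h.cen (hker ⟨z, hz⟩)) x)
  obtain ⟨F, -⟩ := tset_equiv t2
  have e0 : πN.comp sN = Subgroup.inclusion (le_inf hKU hKT) := by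
    ext k
    exact h.sec k
  have hcenR : ∀ y : R, (y : A ⧸ s.range) ∈ Z → y ∈ Subgroup.center R := by
    intro y hy
    rw [Subgroup.mem_center_iff]
    intro x
    exact Subtype.ext (Subgroup.mem_center_iff.1 (hZc hy) x)
  have hcen : ∀ z : πN.ker, (mN.comp πN.ker.subtype) z ∈ Subgroup.center R := by
    intro z
    apply hcenR
    change QuotientGroup.mk' s.range ((z : AN) : A) ∈ Z
    have h1 := hez (g z)
    rw [hg] at h1
    rw [← h1]
    exact (ez (g z)).2
  have hov : ∀ β : IrrCharacter R,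
      Over (mN.comp πN.ker.subtype) (β : R → ℂ) (lf cN⁻¹) ↔
        H155.TI.Over (Subgroup.inclusion hZR) (c⁻¹.comp ez.symm.toMonoidHom) (β : R → ℂ) := by
    intro β
    refine over_iff_over _ hcen cN⁻¹ β.2 _ (fun h1 z => ?_) (fun h1 y w => ?_)
    · have h2 := h1 (ez (g z)) 1
      rw [mul_one] at h2
      have h3 : (Subgroup.inclusion hZR) (ez (g z)) = (mN.comp πN.ker.subtype) z := by
        apply Subtype.ext
        change ((ez (g z) : Z) : A ⧸ s.range) = QuotientGroup.mk' s.range ((z : AN) : A)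
        rw [hez, hg]
      rw [h3] at h2
      rw [h2]
      change ((c⁻¹ (ez.symm (ez (g z))) : ℂˣ) : ℂ) * _ = _
      rw [MulEquiv.symm_apply_apply]
      rfl
    · have hz : ((ez.symm y : π.ker) : A) ∈ AN := by
        rw [hAN, MonoidHom.mem_ker.1 (ez.symm y).2]
        exact U.one_mem
      have hz2 : (⟨((ez.symm y : π.ker) : A), hz⟩ : AN) ∈ πN.ker := by
        rw [MonoidHom.mem_ker]
        apply Subtype.ext
        rw [hπN]
        exact congrArg Subtype.val (MonoidHom.mem_ker.1 (ez.symm y).2)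
      have h2 := h1 ⟨_, hz2⟩ w
      have h3 : (mN.comp πN.ker.subtype) ⟨_, hz2⟩ = (Subgroup.inclusion hZR) y := by
        apply Subtype.ext
        change QuotientGroup.mk' s.range ((ez.symm y : π.ker) : A) = (y : A ⧸ s.range)
        rw [← hez, MulEquiv.apply_symm_apply]
      rw [h3] at h2
      exact h2
  unfold cAll
  rw [← e0]
  exact (Nat.card_congr ((Equiv.subtypeEquivRight fun β => (hov β).symm).trans F)).symm

/-- **The condition on the stabiliser.** -/
theorem cond_of_CL (hCL : CL.{u}) (P : Sylow 3 G) (hTI : TIs P) (hK : ¬ 3 ∣ Nat.card K) (hKT : K ≤ T)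
    (hKC : K ≤ Subgroup.centralizer ((P : Subgroup G) : Set G)) (hPT : (P : Subgroup G) ≤ T)
    (S : Subgroup (G ⧸ K)) (hSn : S.Normal)
    (iso : ∃ (F : Type) (_ : Field F) (_ : Fintype F), Fintype.card F = 4 ∧
      Nonempty (S ≃* Matrix.ProjectiveSpecialLinearGroup (Fin 3) F))
    (hcent : Subgroup.centralizer (S : Set (G ⧸ K)) = ⊥)
    (himg : (P : Subgroup G).map (QuotientGroup.mk' K) ≤ S) (hST : S ≤ T.map (QuotientGroup.mk' K))
    (h9 : Nat.card (P : Subgroup G) = 9) (hθ : IsIrrCharacter K θ) (hT : T ≤ stab θ) :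
    cND 3 (Subgroup.inclusion hKT) θ = cAll (Subgroup.inclusion (le_inf (le_nrm hKC) hKT)) θ := by
  classical
  haveI : Fact (Nat.Prime 3) := ⟨Nat.prime_three⟩
  obtain ⟨A, i1, i2, π, s, χR, h⟩ := exists_dat K T hKT hK hθ hT
  haveI hsn := h.nor
  obtain ⟨c, hc⟩ := h.exists_c
  obtain ⟨PA, hPA⟩ := Sylow.mapSurjective_surjective h.surj 3 (P.subtype hPT)
  have hmk := QuotientGroup.mk'_surjective s.range
  let Z : Subgroup (A ⧸ s.range) := π.ker.map (QuotientGroup.mk' s.range)
  haveI hZn : Z.Normal := Subgroup.Normal.map inferInstance _ hmk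
  obtain ⟨S', hcs⟩ := h.censit hK Z rfl P hTI hKC hPT PA hPA S hSn iso hcent himg hST
  let f : π.ker →* Z := ((QuotientGroup.mk' s.range).comp π.ker.subtype).codRestrict Z (fun z => ⟨z, z.2, rfl⟩)
  have hf : Function.Bijective f := by
    constructor
    · rw [injective_iff_map_eq_one]
      intro z hz
      have h1 : QuotientGroup.mk' s.range (z : A) = 1 := congrArg (fun y : Z => (y : A ⧸ s.range)) hz
      exact Subtype.ext (h.disj (MonoidHom.mem_ker.1 z.2) ((QuotientGroup.eq_one_iff _).1 h1))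
    · rintro ⟨_, z, hz, rfl⟩
      exact ⟨⟨z, hz⟩, rfl⟩
  let ez : π.ker ≃* Z := MulEquiv.ofBijective f hf
  have hez : ∀ z, ((ez z : Z) : A ⧸ s.range) = QuotientGroup.mk' s.range (z : A) := fun z => rfl
  have hcount := hCL (A ⧸ s.range) Z (PA.mapSurjective hmk) S' hcs (c⁻¹.comp ez.symm.toMonoidHom)
  have hPAP : ∀ x ∈ (PA : Subgroup A), (π x : G) ∈ (P : Subgroup G) := by
    intro x hx
    have h1 : π x ∈ ((PA.mapSurjective h.surj : Sylow 3 T) : Subgroup T) := ⟨x, hx, rfl⟩
    rw [hPA] at h1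
    exact h1
  have hcm : ∀ k ∈ (QuotientGroup.mk' s.range).ker, ∀ x ∈ (PA : Subgroup A), k * x = x * k := by
    intro k hk
    rw [QuotientGroup.ker_mk'] at hk
    exact h.comm hKC hPAP k hk
  have hkm : ¬ 3 ∣ Nat.card (QuotientGroup.mk' s.range).ker := by
    rw [QuotientGroup.ker_mk']; exact h.not_dvd hK
  have hR : ∀ a : A, QuotientGroup.mk' s.range a ∈
      Subgroup.normalizer (((PA.mapSurjective hmk : Sylow 3 (A ⧸ s.range)) : Subgroup (A ⧸ s.range)) :
        Set (A ⧸ s.range)) ↔ (π a : G) ∈ Subgroup.normalizer ((P : Subgroup G) : Set G) := by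
    intro a
    have h1 := norm_iff (QuotientGroup.mk' s.range) PA.2 hkm hcm a
    have h2 := norm_iff π PA.2 h.k3 (fun k hk x _ => (Subgroup.mem_center_iff.1 (h.cen hk) x).symm) a
    have h3 : (((PA.mapSurjective h.surj : Sylow 3 T) : Subgroup T)) = (PA : Subgroup A).map π := rfl
    rw [← h3, hPA, mem_norm_subtype] at h2
    exact h1.trans h2.symm
  rw [h.count1 hKT hK hθ hc Z hcs.cen ez hez P h9 hPT, hcount, h.count2 hKT hθ hc Z hcs.cen ez hez _
    (le_nrm hKC) _ (le_norm hcs.cen _) hR]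

end main

end Cfsg.Agent.H199.TI
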