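import Cfsg.Agent.H199.TI.Fact
import Cfsg.Agent.H199.TI.Main
import Cfsg.Agent.H608.TI.BlkPart

/-!
# S4819/S4820, row `PSL₃(4)`: `GoalR`, the reduction to the central count (helper199)

* `BlkPart` : the block theoretic part (helper608);
* `goalR_of` : `GoalR` from `BlkPart` and `GoalAut`;
* `goalR` : `GoalR` from `GoalAut`.
-/

set_option autoImplicit false
set_option linter.style.haveILetI false
set_option linter.unusedSectionVars false

open Cfsg
open scoped Pointwise commutatorElement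

namespace Cfsg.Agent.H199.TI

open Cfsg.Agent.Characters.Core Cfsg.Agent.H672 Cfsg.Agent.H672.RM Cfsg.Agent.H675.Nd Cfsg.Agent.H681.TI
open Cfsg.Agent.H723.TI (TIs Rk Sit img)

universe u v w

/-- the block theoretic part -/
def BlkPart : Prop :=
  ∀ {G : Type u} [Group G] [Finite G] {p : ℕ} [Fact p.Prime] {M : Ideal AlgInt}
    (_ : IsPModular p M) (P : Sylow p G) (_ : (P : Subgroup G) ≠ ⊥)
    (_ : ∀ g : G, g ∉ Subgroup.normalizer ((P : Subgroup G) : Set G) →
      (P : Subgroup G) ⊓ (MulAut.conj g • (P : Subgroup G)) = ⊥)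
    (K : Subgroup G) [K.Normal] (_ : ¬ p ∣ Nat.card K)
    (hKC : K ≤ Subgroup.centralizer ((P : Subgroup G) : Set G))
    (E : Subgroup G) [E.Normal] (_ : (P : Subgroup G) ≤ E)
    (_ : ∀ k ∈ K, ∀ e ∈ E, k * e = e * k) (_ : ∀ x y : G, ⁅x, y⁆ ∈ K ⊔ E)
    (_ : ∀ x ∈ K ⊔ E, x ∈ Subgroup.centralizer ((P : Subgroup G) : Set G) → ¬ p ∣ orderOf x → x ∈ K)
    (_ : ∀ (θ : K → ℂ) (hθ : IsIrrCharacter K θ),
      cND p (Subgroup.inclusion (le_stab (isIrr_isClassFunction hθ))) θ =
        cAll (Subgroup.inclusion (le_inf (le_nrm hKC) (le_stab (isIrr_isClassFunction hθ)))) θ)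
    (B : Set (IrrCharacter G)) (_ : IsDefectGroup p M B P)
    (b : Set (IrrCharacter (Subgroup.normalizer ((P : Subgroup G) : Set G))))
    (_ : IsInducedBlock M (Subgroup.normalizer ((P : Subgroup G) : Set G)) b B),
    Nat.card B = Nat.card b

theorem goalR_of (hblk : BlkPart.{u}) (hAut : H155.TI.GoalAut.{u}) : H155.TI.GoalR.{u} := by
  intro hCL G _ _ P S h himg hΦ
  obtain ⟨F, i1, i2, hF, ⟨e⟩⟩ := hΦ
  haveI : Fact (Nat.Prime 3) := ⟨Nat.prime_three⟩
  intro M hM B hB hBP b hb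
  have hcount := H608.TI.count hM P h.ti hB hBP hb
  suffices h1 : Nat.card B = Nat.card b by omega
  haveI hKn : (pPrimeCore 3 G).Normal := Lib.Cores.pPrimeCore_normal 3
  have hK : ¬ 3 ∣ Nat.card (pPrimeCore 3 G) := H681.TI.core_not_dvd
  have hP1 := sylow_ne_bot P h himg hF e
  have hPE : (P : Subgroup G) ≤ Subgroup.normalClosure ((P : Subgroup G) : Set G) := Subgroup.le_normalClosure
  have hcomm := comm_normalClosure h.cen
  refine hblk hM P hP1 h.ti (pPrimeCore 3 G) hK h.cen (Subgroup.normalClosure ((P : Subgroup G) : Set G)) hPE hcomm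
    (commutator_aux P h himg hF e hAut) (centralizer_aux P h himg hF e) (fun θ hθ => ?_) B hBP b hb
  have hE : Subgroup.normalClosure ((P : Subgroup G) : Set G) ≤ stab θ := le_stab_of_comm hcomm θ
  refine cond_of_CL hCL P h.ti hK (le_stab (isIrr_isClassFunction hθ)) h.cen (hPE.trans hE) S h.normal
    ⟨F, i1, i2, hF, ⟨e⟩⟩ h.cent himg ?_ (card_nine P himg (card_of_equiv hF e)) hθ le_rfl
  conv_lhs => rw [← normalClosure_eq P h hP1 himg]
  exact Subgroup.map_mono hE

/-- **`GoalR`** -/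
theorem goalR (hAut : H155.TI.GoalAut.{u}) : H155.TI.GoalR.{u} :=
  goalR_of (fun {G} _ _ {p} _ {M} hM P hP1 hTI K _ hK hKC E _ hPE hcomm hab hC hcond B hBP b hb =>
    H608.TI.card_eq_of_abelian hM P hP1 hTI K hK hKC E hPE hcomm hab hC hcond B hBP b hb) hAut

end Cfsg.Agent.H199.TI
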