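import Cfsg.Agent.H199.TI.Trip

/-!
# S4819/S4820, row `PSL₃(4)`: the condition on the stabiliser from the central count `CL` (helper199)

`cond_of_CL` : for `θ ∈ Irr(K)` with stabiliser `T` the characters of `T` over `θ` not of 3-defect zero and the characters of
`N_T(P)` over `θ` are equal in number.
-/

set_option autoImplicit false
set_option linter.style.haveILetI false
set_option linter.unusedSectionVars false

open Cfsg
open scoped Pointwise ComplexConjugate

namespace Cfsg.Agent.H199.TI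

open Cfsg.Agent.Characters.Core Cfsg.Agent.H672 Cfsg.Agent.H672.RM Cfsg.Agent.H595.Central Cfsg.Agent.H681.TI
open Cfsg.Agent.H723.TI (TIs)
open Cfsg.Agent.H155.TI (CL CenSit le_norm)

universe u v w

/-- the covering data -/
structure Dat {G : Type u} [Group G] (p : ℕ) (K T : Subgroup G) (θ : K → ℂ) (A : Type u) [Group A] (π : A →* T)
    (s : K →* A) (χR : A → ℂ) : Prop where
  surj : Function.Surjective π
  cen : π.ker ≤ Subgroup.center A
  sec : ∀ k, (π (s k) : G) = k
  nor : s.range.Normal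
  irr : IsIrrCharacter A χR
  ext : ∀ k, χR (s k) = θ k
  k3 : ¬ p ∣ Nat.card π.ker

section dat
variable {G : Type u} [Group G] [Finite G] {p : ℕ} [hp : Fact p.Prime]

theorem exists_dat (K T : Subgroup G) [hKn : K.Normal] (hKT : K ≤ T) (hK : ¬ p ∣ Nat.card K) {θ : K → ℂ}
    (hθ : IsIrrCharacter K θ) (hT : T ≤ stab θ) :
    ∃ (A : Type u) (_ : Group A) (_ : Finite A) (π : A →* T) (s : K →* A) (χR : A → ℂ), Dat p K T θ A π s χR := by
  obtain ⟨A, i1, i2, π, s, χR, h1, h2, h3, h4, h5, h6, h7⟩ := exists_cov (Subgroup.inclusion hKT)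
    (Subgroup.inclusion_injective hKT) (by
      refine ⟨?_⟩
      rintro _ ⟨k, rfl⟩ t
      refine ⟨⟨(t : G) * k * (t : G)⁻¹, hKn.conj_mem _ k.2 _⟩, ?_⟩
      apply Subtype.ext
      rfl) hK hθ (by
      intro t k k' h
      have ht := mem_stab.1 (hT t.2)
      have h1 : (k' : G) = t * k * (t : G)⁻¹ := congrArg Subtype.val h
      have h2 := tw_apply' ht.1 θ k k' h1
      rw [← h2, ht.2])
  exact ⟨A, i1, i2, π, s, χR, h1, h2, fun k => congrArg Subtype.val (h3 k), h4, h5, h6, h7⟩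

variable {K T : Subgroup G} {θ : K → ℂ} {A : Type u} [Group A] [Finite A] {π : A →* T} {s : K →* A} {χR : A → ℂ}

theorem Dat.inj (h : Dat p K T θ A π s χR) : Function.Injective s := by
  intro k k' hkk
  apply Subtype.ext
  rw [← h.sec, ← h.sec, hkk]

theorem Dat.disj (h : Dat p K T θ A π s χR) {x : A} (h1 : π x = 1) (h2 : x ∈ s.range) : x = 1 := by
  obtain ⟨k, rfl⟩ := h2
  have h3 := h.sec k
  rw [h1] at h3
  have h4 : k = 1 := Subtype.ext h3.symm
  rw [h4, map_one]

theorem Dat.not_dvd (h : Dat p K T θ A π s χR) (hK : ¬ p ∣ Nat.card K) : ¬ p ∣ Nat.card s.range := by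
  rw [← Nat.card_congr (MonoidHom.ofInjective h.inj).toEquiv]
  exact hK

/-- `s K` centralises a `p`-subgroup lying over a subgroup centralised by `K`. -/
theorem Dat.comm (h : Dat p K T θ A π s χR) {P : Subgroup G} (hKC : K ≤ Subgroup.centralizer (P : Set G))
    {PA : Subgroup A} (hPA : ∀ x ∈ PA, (π x : G) ∈ P) : ∀ k ∈ s.range, ∀ x ∈ PA, k * x = x * k := by
  intro k hk x hx
  have h1 : k * x * k⁻¹ * x⁻¹ = 1 := by
    apply h.disj
    · obtain ⟨y, rfl⟩ := hk
      apply Subtype.ext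
      have h2 := Subgroup.mem_centralizer_iff.1 (hKC y.2) _ (hPA x hx)
      have h3 : ((π (s y * x * (s y)⁻¹ * x⁻¹) : T) : G) = (y : G) * (π x : G) * (y : G)⁻¹ * (π x : G)⁻¹ := by
        rw [map_mul, map_mul, map_mul, map_inv, map_inv]
        push_cast
        rw [h.sec]
      rw [h3, ← h2]
      simp
    · have h4 := h.nor.conj_mem _ (Subgroup.inv_mem _ hk) x
      have h5 : k * x * k⁻¹ * x⁻¹ = k * (x * k⁻¹ * x⁻¹) := by group
      rw [h5]
      exact Subgroup.mul_mem _ hk h4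
  have h6 : k * x = x * k := by
    have h7 := mul_inv_eq_one.1 h1
    exact mul_inv_eq_iff_eq_mul.1 h7
  exact h6

theorem Dat.exists_c (h : Dat p K T θ A π s χR) :
    ∃ c : π.ker →* ℂˣ, ∀ (x : A) (z : π.ker), χR (x * z) = χR x * c z := by
  obtain ⟨c, hc, -⟩ := Cfsg.Agent.CharactersDeep.Extraspecial.exists_central_hom h.irr
  exact ⟨c.comp (Subgroup.inclusion h.cen), fun x z => hc x (Subgroup.inclusion h.cen z)⟩

end dat

section cs
variable {G : Type u} [Group G] [Finite G] {K T : Subgroup G} [hKn : K.Normal] {θ : K → ℂ} {A : Type u} [Group A]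
  [Finite A] {π : A →* T} {s : K →* A} {χR : A → ℂ}

/-- the map to `G / K` -/
def toQ (K : Subgroup G) [K.Normal] (π : A →* T) : A →* G ⧸ K := (QuotientGroup.mk' K).comp (T.subtype.comp π)

theorem toQ_apply (K : Subgroup G) [K.Normal] (π : A →* T) (a : A) : toQ K π a = QuotientGroup.mk' K (π a : G) := rfl

/-- restriction of TI to a subgroup -/
theorem ti_sub {p : ℕ} (P : Sylow p G) (hTI : TIs P) (hPT : (P : Subgroup G) ≤ T) : TIs (P.subtype hPT) := by
  intro t ht
  rw [eq_bot_iff]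
  rintro x ⟨hx1, y, hy, hx2⟩
  have h1 := hTI (t : G) (by
    intro h2
    apply ht
    rw [Subgroup.mem_normalizer_iff]
    intro y
    exact Subgroup.mem_normalizer_iff.1 h2 y)
  have h2 : (x : G) ∈ (P : Subgroup G) ⊓ MulAut.conj (t : G) • (P : Subgroup G) :=
    ⟨hx1, (y : G), hy, congrArg Subtype.val hx2⟩
  rw [h1, Subgroup.mem_bot] at h2
  exact Subgroup.mem_bot.2 (Subtype.ext h2)

theorem Dat.censit (h : Dat 3 K T θ A π s χR) (hK : ¬ 3 ∣ Nat.card K) [hsn : s.range.Normal]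
    (Z : Subgroup (A ⧸ s.range)) (hZ : Z = π.ker.map (QuotientGroup.mk' s.range)) [hZn : Z.Normal]
    (P : Sylow 3 G) (hTI : TIs P) (hKC : K ≤ Subgroup.centralizer ((P : Subgroup G) : Set G))
    (hPT : (P : Subgroup G) ≤ T) (PA : Sylow 3 A) (hPA : PA.mapSurjective h.surj = P.subtype hPT)
    (S : Subgroup (G ⧸ K)) (hSn : S.Normal)
    (iso : ∃ (F : Type) (_ : Field F) (_ : Fintype F), Fintype.card F = 4 ∧
      Nonempty (S ≃* Matrix.ProjectiveSpecialLinearGroup (Fin 3) F))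
    (hcent : Subgroup.centralizer (S : Set (G ⧸ K)) = ⊥)
    (himg : (P : Subgroup G).map (QuotientGroup.mk' K) ≤ S) (hST : S ≤ T.map (QuotientGroup.mk' K)) :
    ∃ S' : Subgroup ((A ⧸ s.range) ⧸ Z),
      CenSit Z (PA.mapSurjective (QuotientGroup.mk'_surjective s.range)) S' := by
  classical
  haveI : Fact (Nat.Prime 3) := ⟨Nat.prime_three⟩
  have hmk := QuotientGroup.mk'_surjective s.range
  have hPAP : ∀ x ∈ (PA : Subgroup A), (π x : G) ∈ (P : Subgroup G) := by
    intro x hx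
    have h1 : π x ∈ ((PA.mapSurjective h.surj : Sylow 3 T) : Subgroup T) := ⟨x, hx, rfl⟩
    rw [hPA] at h1
    exact h1
  -- the map to `G / K`
  let r : A ⧸ s.range →* G ⧸ K := QuotientGroup.lift s.range (toQ K π) (by
    rintro _ ⟨k, rfl⟩
    rw [MonoidHom.mem_ker, toQ_apply, h.sec]
    exact (QuotientGroup.eq_one_iff _).2 k.2)
  have hr : ∀ a : A, r (QuotientGroup.mk' s.range a) = QuotientGroup.mk' K (π a : G) := fun a => rfl
  have hrk : ∀ y, y ∈ r.ker ↔ y ∈ Z := by
    intro y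
    obtain ⟨a, rfl⟩ := hmk y
    rw [MonoidHom.mem_ker, hr, hZ]
    constructor
    · intro h1
      have h2 : (π a : G) ∈ K := (QuotientGroup.eq_one_iff _).1 h1
      refine ⟨(s ⟨_, h2⟩)⁻¹ * a, ?_, ?_⟩
      · rw [SetLike.mem_coe, MonoidHom.mem_ker]
        apply Subtype.ext
        rw [map_mul, map_inv]
        push_cast
        rw [h.sec]
        simp
      · rw [map_mul, map_inv]
        have h3 : QuotientGroup.mk' s.range (s ⟨_, h2⟩) = 1 := (QuotientGroup.eq_one_iff _).2 ⟨_, rfl⟩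
        rw [h3, inv_one, one_mul]
    · rintro ⟨z, hz, hza⟩
      rw [← hr, ← hza, hr, MonoidHom.mem_ker.1 hz]
      exact map_one _
  let rb : (A ⧸ s.range) ⧸ Z →* G ⧸ K := QuotientGroup.lift Z r (fun y hy => MonoidHom.mem_ker.1 ((hrk y).2 hy))
  have hrb : ∀ y, rb (QuotientGroup.mk' Z y) = r y := fun y => rfl
  have hrbi : Function.Injective rb := by
    rw [injective_iff_map_eq_one]
    intro y hy
    obtain ⟨y, rfl⟩ := QuotientGroup.mk'_surjective Z y
    rw [hrb] at hy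
    exact (QuotientGroup.eq_one_iff _).2 ((hrk y).1 (MonoidHom.mem_ker.2 hy))
  have hrbs : ∀ x ∈ S, ∃ y, rb y = x := by
    intro x hx
    obtain ⟨t, ht, rfl⟩ := hST hx
    obtain ⟨a, ha⟩ := h.surj ⟨t, ht⟩
    refine ⟨QuotientGroup.mk' Z (QuotientGroup.mk' s.range a), ?_⟩
    rw [hrb, hr, ha]
  have hcm : ∀ k ∈ (QuotientGroup.mk' s.range).ker, ∀ x ∈ (PA : Subgroup A), k * x = x * k := by
    intro k hk
    rw [QuotientGroup.ker_mk'] at hk
    exact h.comm hKC hPAP k hk
  have hkm : ¬ 3 ∣ Nat.card (QuotientGroup.mk' s.range).ker := by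
    rw [QuotientGroup.ker_mk']; exact h.not_dvd hK
  refine ⟨S.comap rb, ?_, ?_, ?_, ?_, ?_, ?_, ?_⟩
  · rw [hZ]
    rintro _ ⟨z, hz, rfl⟩
    rw [Subgroup.mem_center_iff]
    intro g
    obtain ⟨a, rfl⟩ := hmk g
    rw [← map_mul, ← map_mul, Subgroup.mem_center_iff.1 (h.cen hz) a]
  · intro h1
    apply h.k3
    refine h1.trans ?_
    rw [hZ]
    exact Subgroup.card_map_dvd _ _
  · exact hSn.comap rb
  · obtain ⟨F, i1, i2, hF, ⟨e⟩⟩ := iso
    let f : S.comap rb →* S := rb.subgroupComap S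
    have hf : Function.Bijective f := by
      constructor
      · intro x y hxy
        exact Subtype.ext (hrbi (congrArg Subtype.val hxy))
      · rintro ⟨x, hx⟩
        obtain ⟨y, rfl⟩ := hrbs x hx
        exact ⟨⟨y, hx⟩, rfl⟩
    exact ⟨F, i1, i2, hF, ⟨(MulEquiv.ofBijective f hf).trans e⟩⟩
  · rw [eq_bot_iff]
    intro y hy
    have h1 : rb y ∈ Subgroup.centralizer (S : Set (G ⧸ K)) := by
      rw [Subgroup.mem_centralizer_iff] at hy ⊢
      intro x hx
      obtain ⟨w, rfl⟩ := hrbs x hx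
      have h2 := hy w hx
      rw [← map_mul, ← map_mul, h2]
    rw [hcent, Subgroup.mem_bot] at h1
    rw [Subgroup.mem_bot]
    apply hrbi
    rw [h1, map_one]
  · rintro _ ⟨_, ⟨a, ha, rfl⟩, rfl⟩
    change rb _ ∈ S
    rw [hrb]
    exact himg ⟨_, hPAP a ha, rfl⟩
  · rw [ti_map (QuotientGroup.mk' s.range) hmk PA hkm hcm, ← ti_map π h.surj PA h.k3 (fun k hk x _ =>
      (Subgroup.mem_center_iff.1 (h.cen hk) x).symm), hPA]
    exact ti_sub P hTI hPT

end cs

end Cfsg.Agent.H199.TI
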