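import Cfsg.Agent.H407.TI.L34
import Cfsg.Agent.H681.TI.Frame
import Cfsg.Agent.H155.TI.Defs

/-!
# S4819/S4820, row `PSL₃(4)`: group theoretic facts (helper199)
-/

set_option autoImplicit false
set_option linter.style.haveILetI false
set_option linter.unusedSectionVars false

open Cfsg
open scoped Pointwise commutatorElement

namespace Cfsg.Agent.H199.TI

open Cfsg.Agent.H723.TI (TIs Rk Sit img)
open Cfsg.Agent.SporadicA.FieldFour Cfsg.Agent.ONType.Psl Cfsg.Agent.ONType.PslCard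

universe u v w

/-- In `PSL₃(4)` a `3'`-element commuting with a nontrivial `3`-element is trivial. -/
theorem eq_one_of_comm {S : Type u} [Group S] {F : Type} [Field F] [Fintype F] (hF : Fintype.card F = 4)
    (e : S ≃* Matrix.ProjectiveSpecialLinearGroup (Fin 3) F) {x y : S} (hx : x ≠ 1) (h3 : ∃ m : ℕ, x ^ 3 ^ m = 1)
    (hxy : x * y = y * x) (hy : ¬ 3 ∣ orderOf y) : y = 1 := by
  obtain ⟨f⟩ := nonempty_psl_equiv (n := Fin 3) F hF
  let g : S ≃* PSL3 := e.trans f.symm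
  haveI : Fact (Nat.Prime 3) := ⟨Nat.prime_three⟩
  obtain ⟨m, hm⟩ := h3
  obtain ⟨k, -, hk⟩ := (Nat.dvd_prime_pow Nat.prime_three).1 (orderOf_dvd_of_pow_eq_one hm)
  have hk0 : k ≠ 0 := by
    rintro rfl
    rw [pow_zero] at hk
    exact hx (orderOf_eq_one_iff.1 hk)
  obtain ⟨k, rfl⟩ := Nat.exists_eq_succ_of_ne_zero hk0
  have ho : orderOf (x ^ 3 ^ k) = 3 := by
    rw [orderOf_pow' _ (by positivity), hk, Nat.gcd_eq_right (pow_dvd_pow 3 (Nat.le_succ k)), pow_succ,
      Nat.mul_div_cancel_left _ (by positivity)]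
  have ho' : orderOf (g (x ^ 3 ^ k)) = 3 := by rw [MulEquiv.orderOf_eq, ho]
  have hc := H407.TI.card_cent_three ho'
  have hmem : g y ∈ Subgroup.centralizer ({g (x ^ 3 ^ k)} : Set PSL3) := by
    rw [Subgroup.mem_centralizer_singleton_iff, ← map_mul, ← map_mul]
    congr 1
    have hcomm : Commute x y := hxy
    exact (hcomm.pow_left _).eq.symm
  have hd : orderOf (g y) ∣ 9 := by
    rw [← hc]
    have := orderOf_dvd_natCard (⟨g y, hmem⟩ : Subgroup.centralizer ({g (x ^ 3 ^ k)} : Set PSL3))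
    rwa [Subgroup.orderOf_mk] at this
  rw [MulEquiv.orderOf_eq] at hd
  have hcop : Nat.Coprime (orderOf y) 9 := by
    rw [show (9 : ℕ) = 3 ^ 2 by norm_num]
    exact Nat.Coprime.pow_right _ ((Nat.Prime.coprime_iff_not_dvd Nat.prime_three).2 hy).symm
  exact orderOf_eq_one_iff.1 (Nat.Coprime.eq_one_of_dvd hcop hd)

theorem card_of_equiv {S : Type u} [Group S] {F : Type} [Field F] [Fintype F] (hF : Fintype.card F = 4)
    (e : S ≃* Matrix.ProjectiveSpecialLinearGroup (Fin 3) F) : Nat.card S = 20160 := by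
  obtain ⟨f⟩ := nonempty_psl_equiv (n := Fin 3) F hF
  rw [Nat.card_congr (e.trans f.symm).toEquiv, card_PSL3]

section sit
variable {G : Type u} [Group G] [Finite G] (P : Sylow 3 G) {S : Subgroup (G ⧸ pPrimeCore 3 G)}

theorem index_not_dvd (hPS : img 3 P ≤ S) : ¬ 3 ∣ S.index := by
  haveI : Fact (Nat.Prime 3) := ⟨Nat.prime_three⟩
  let Q : Sylow 3 (G ⧸ pPrimeCore 3 G) := P.mapSurjective (QuotientGroup.mk'_surjective _)
  have hQ : (Q : Subgroup (G ⧸ pPrimeCore 3 G)) = img 3 P := rfl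
  intro h
  exact Q.not_dvd_index (h.trans (Subgroup.index_dvd_of_le (hQ.le.trans hPS)))

theorem card_nine (hPS : img 3 P ≤ S) (hS : Nat.card S = 20160) : Nat.card (P : Subgroup G) = 9 := by
  haveI : Fact (Nat.Prime 3) := ⟨Nat.prime_three⟩
  have h1 := index_not_dvd P hPS
  have h2 : ¬ 3 ∣ Nat.card (pPrimeCore 3 G) := H681.TI.core_not_dvd
  have h3 : Nat.card G = S.index * 20160 * Nat.card (pPrimeCore 3 G) := by
    rw [← hS, S.index_mul_card]
    exact Subgroup.card_eq_card_quotient_mul_card_subgroup _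
  have h4 := P.card_eq_multiplicity
  have hi : S.index ≠ 0 := Subgroup.index_ne_zero_of_finite
  rw [h3, Nat.factorization_mul (mul_ne_zero hi (by norm_num)) Nat.card_pos.ne',
    Nat.factorization_mul hi (by norm_num), Finsupp.add_apply, Finsupp.add_apply,
    Nat.factorization_eq_zero_of_not_dvd h1, Nat.factorization_eq_zero_of_not_dvd h2] at h4
  have h5 : (20160 : ℕ).factorization 3 = 2 := by
    rw [show (20160 : ℕ) = 3 ^ 2 * 2240 by norm_num, Nat.factorization_mul (by norm_num) (by norm_num),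
      Finsupp.add_apply, Nat.prime_three.factorization_pow, Finsupp.single_eq_same,
      Nat.factorization_eq_zero_of_not_dvd (by norm_num)]
  rw [h5] at h4
  exact h4

variable (h : Sit 3 P S) (hPS : img 3 P ≤ S) {F : Type} [Field F] [Fintype F] (hF : Fintype.card F = 4)
  (e : S ≃* Matrix.ProjectiveSpecialLinearGroup (Fin 3) F)
include h hPS hF e

theorem sylow_ne_bot : (P : Subgroup G) ≠ ⊥ := by
  intro h0
  have h1 := card_nine P hPS (card_of_equiv hF e)
  rw [h0, Subgroup.card_bot] at h1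
  norm_num at h1

theorem sup_eq : (pPrimeCore 3 G ⊔ Subgroup.normalClosure ((P : Subgroup G) : Set G)) =
    S.comap (QuotientGroup.mk' (pPrimeCore 3 G)) := by
  haveI : Fact (Nat.Prime 3) := ⟨Nat.prime_three⟩
  rw [← H681.TI.normalClosure_eq P h (sylow_ne_bot P h hPS hF e) hPS, Subgroup.comap_map_eq, QuotientGroup.ker_mk',
    sup_comm]

theorem centralizer_aux (x : G)
    (hx : x ∈ pPrimeCore 3 G ⊔ Subgroup.normalClosure ((P : Subgroup G) : Set G))
    (hxP : x ∈ Subgroup.centralizer ((P : Subgroup G) : Set G)) (h3 : ¬ 3 ∣ orderOf x) : x ∈ pPrimeCore 3 G := by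
  haveI : Fact (Nat.Prime 3) := ⟨Nat.prime_three⟩
  have hne := H681.TI.img_ne_bot P (sylow_ne_bot P h hPS hF e)
  rw [sup_eq P h hPS hF e, Subgroup.mem_comap] at hx
  obtain ⟨⟨y, hy⟩, hy0⟩ := Subgroup.ne_bot_iff_exists_ne_one.1 hne
  have hy1 : y ≠ 1 := fun h0 => hy0 (Subtype.ext h0)
  obtain ⟨z, hz, rfl⟩ := hy
  have h1 : (⟨QuotientGroup.mk' (pPrimeCore 3 G) x, hx⟩ : S) = 1 := by
    refine eq_one_of_comm hF e (x := ⟨QuotientGroup.mk' (pPrimeCore 3 G) z, hPS ⟨z, hz, rfl⟩⟩) ?_ ?_ ?_ ?_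
    · exact fun h0 => hy1 (congrArg Subtype.val h0)
    · obtain ⟨m, hm⟩ := P.2 ⟨z, hz⟩
      have hm' : z ^ 3 ^ m = 1 := congrArg Subtype.val hm
      refine ⟨m, Subtype.ext ?_⟩
      change (QuotientGroup.mk' (pPrimeCore 3 G) z) ^ 3 ^ m = 1
      rw [← map_pow, hm', map_one]
    · apply Subtype.ext
      change QuotientGroup.mk' (pPrimeCore 3 G) z * QuotientGroup.mk' (pPrimeCore 3 G) x =
        QuotientGroup.mk' (pPrimeCore 3 G) x * QuotientGroup.mk' (pPrimeCore 3 G) z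
      rw [← map_mul, ← map_mul, Subgroup.mem_centralizer_iff.1 hxP z hz]
    · rw [Subgroup.orderOf_mk]
      intro hd
      exact h3 (hd.trans (orderOf_map_dvd (QuotientGroup.mk' (pPrimeCore 3 G)) x))
  exact (QuotientGroup.eq_one_iff x).1 (congrArg Subtype.val h1)

theorem commutator_aux (hAut : H155.TI.GoalAut.{u}) (x y : G) :
    ⁅x, y⁆ ∈ pPrimeCore 3 G ⊔ Subgroup.normalClosure ((P : Subgroup G) : Set G) := by
  haveI := h.normal
  rw [sup_eq P h hPS hF e, Subgroup.mem_comap, map_commutatorElement]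
  have h1 := hAut (G ⧸ pPrimeCore 3 G) S ⟨F, inferInstance, inferInstance, hF, ⟨e⟩⟩ h.cent (index_not_dvd P hPS)
  have h2 : ∀ g : G ⧸ pPrimeCore 3 G, g * g ∈ S := by
    rcases h1 with h1 | h1 | h1
    · rw [Subgroup.index_eq_one] at h1
      intro g
      rw [h1]
      exact Subgroup.mem_top _
    · exact Subgroup.mul_self_mem_of_index_two h1
    · exact h1.2.1
  generalize QuotientGroup.mk' (pPrimeCore 3 G) x = a
  generalize QuotientGroup.mk' (pPrimeCore 3 G) y = b
  have h3 : ⁅a, b⁆ = ((a * b) * (a * b)) * (b⁻¹ * (a⁻¹ * a⁻¹) * b) * (b⁻¹ * b⁻¹) := by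
    rw [commutatorElement_def]; group
  rw [h3]
  refine S.mul_mem (S.mul_mem (h2 _) ?_) (h2 _)
  have h4 := h.normal.conj_mem _ (h2 a⁻¹) b⁻¹
  rwa [inv_inv] at h4

end sit

end Cfsg.Agent.H199.TI
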