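import Cfsg.Agent.H723.TI.Defs

/-!
# S4819/S4820, row `PSL₃(4)`: TI Sylow subgroups and central `p'`-kernels (helper199)

`f : A →* B` with a kernel of order prime to `p` centralised by the Sylow `p`-subgroup `P` of `A`:

* `norm_iff` : `f a` normalises `f P` iff `a` normalises `P`;
* `ti_map` : `f P` is TI iff `P` is TI.
-/

set_option autoImplicit false

open Cfsg
open scoped Pointwise

namespace Cfsg.Agent.H199.TI

open Cfsg.Agent.H723.TI (TIs)

universe u v

section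
variable {A : Type u} {B : Type v} [Group A] [Group B] [Finite A] {p : ℕ} [hp : Fact p.Prime]

/-- An element `y k` of `p`-power order, `k` in a `p'`-subgroup centralising `y`. -/
theorem eq_one_of_mul {P L : Subgroup A} (hP : IsPGroup p P) (hL : ¬ p ∣ Nat.card L)
    (hc : ∀ k ∈ L, ∀ x ∈ P, k * x = x * k) {y k : A} (hy : y ∈ P) (hk : k ∈ L)
    (h : ∃ m : ℕ, (y * k) ^ p ^ m = 1) : k = 1 := by
  obtain ⟨m, hm⟩ := h
  have hcomm : Commute y k := (hc k hk y hy).symm
  obtain ⟨l, hl⟩ := hP ⟨y, hy⟩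
  have hl' : y ^ p ^ l = 1 := congrArg Subtype.val hl
  have h3 : (y * k) ^ p ^ (m + l) = 1 := by
    rw [pow_add, pow_mul, hm, one_pow]
  rw [hcomm.mul_pow, pow_add, mul_comm (p ^ m) (p ^ l), pow_mul y, hl', one_pow, one_mul] at h3
  have h4 : orderOf k ∣ p ^ l * p ^ m := orderOf_dvd_of_pow_eq_one h3
  have h5 : orderOf k ∣ Nat.card L := by
    have := orderOf_dvd_natCard (⟨k, hk⟩ : L)
    rwa [Subgroup.orderOf_mk] at this
  have h6 : Nat.Coprime (p ^ l * p ^ m) (Nat.card L) := by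
    rw [← pow_add]
    exact Nat.Coprime.pow_left _ ((Nat.Prime.coprime_iff_not_dvd hp.out).2 hL)
  exact orderOf_eq_one_iff.1 (Nat.eq_one_of_dvd_coprimes h6 h4 h5)

/-- `f (a b a⁻¹) = f y` with `b`, `y` in `P`. -/
theorem conj_eq_of_map (f : A →* B) {P : Subgroup A} (hP : IsPGroup p P) (hk : ¬ p ∣ Nat.card f.ker)
    (hc : ∀ k ∈ f.ker, ∀ x ∈ P, k * x = x * k) {a b y : A} (hb : b ∈ P) (hy : y ∈ P)
    (h : f (a * b * a⁻¹) = f y) : a * b * a⁻¹ = y := by
  have h1 : y⁻¹ * (a * b * a⁻¹) ∈ f.ker := by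
    rw [MonoidHom.mem_ker, map_mul, h, map_inv, inv_mul_cancel]
  have h2 := eq_one_of_mul hP hk hc hy h1 (by
    obtain ⟨m, hm⟩ := hP ⟨b, hb⟩
    have hm' : b ^ p ^ m = 1 := congrArg Subtype.val hm
    refine ⟨m, ?_⟩
    rw [mul_inv_cancel_left, conj_pow, hm', mul_one, mul_inv_cancel])
  rw [inv_mul_eq_one] at h2
  exact h2.symm

theorem norm_iff (f : A →* B) {P : Subgroup A} (hP : IsPGroup p P) (hk : ¬ p ∣ Nat.card f.ker)
    (hc : ∀ k ∈ f.ker, ∀ x ∈ P, k * x = x * k) (a : A) :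
    f a ∈ Subgroup.normalizer (P.map f : Set B) ↔ a ∈ Subgroup.normalizer (P : Set A) := by
  constructor
  · intro h
    have hsub : ∀ b ∈ P, a * b * a⁻¹ ∈ P := by
      intro b hb
      obtain ⟨y, hy, hy'⟩ := (Subgroup.mem_normalizer_iff.1 h (f b)).1 ⟨b, hb, rfl⟩
      have h1 := conj_eq_of_map f hP hk hc (a := a) hb hy (by rw [hy', map_mul, map_mul, map_inv])
      rw [h1]
      exact hy
    have h7 : P.map (MulAut.conj a).toMonoidHom = P := by
      apply Subgroup.eq_of_le_of_card_ge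
      · rintro _ ⟨b, hb, rfl⟩
        exact hsub b hb
      · rw [Subgroup.card_map_of_injective (MulAut.conj a).injective]
    rw [Subgroup.mem_normalizer_iff]
    intro b
    refine ⟨fun hb => hsub b hb, fun hb => ?_⟩
    have hb' : a * b * a⁻¹ ∈ P := hb
    rw [← h7] at hb'
    obtain ⟨b', hb'', he⟩ := hb'
    have h8 : b' = b := (MulAut.conj a).injective he
    exact h8 ▸ hb''
  · intro h
    rw [Subgroup.mem_normalizer_iff]
    intro y
    constructor
    · rintro ⟨b, hb, rfl⟩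
      exact ⟨a * b * a⁻¹, (Subgroup.mem_normalizer_iff.1 h b).1 hb, by simp⟩
    · rintro ⟨b, hb, hb'⟩
      refine ⟨a⁻¹ * b * a, ?_, ?_⟩
      · have h9 := (Subgroup.mem_normalizer_iff.1 (Subgroup.inv_mem _ h) b).1 hb
        simpa using h9
      · rw [map_mul, map_mul, map_inv, hb']
        group

theorem ti_map (f : A →* B) (hf : Function.Surjective f) (P : Sylow p A) (hk : ¬ p ∣ Nat.card f.ker)
    (hc : ∀ k ∈ f.ker, ∀ x ∈ (P : Subgroup A), k * x = x * k) :
    TIs (P.mapSurjective hf) ↔ TIs P := by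
  have hmap : ((P.mapSurjective hf : Sylow p B) : Subgroup B) = (P : Subgroup A).map f := rfl
  unfold TIs
  rw [hmap]
  constructor
  · intro h a ha
    rw [eq_bot_iff]
    rintro x ⟨hx1, b, hb, hx2⟩
    have h1 := h (f a) (fun h2 => ha ((norm_iff f P.2 hk hc a).1 h2))
    have h2 : f x ∈ (P : Subgroup A).map f ⊓ MulAut.conj (f a) • (P : Subgroup A).map f := by
      refine ⟨⟨x, hx1, rfl⟩, f b, ⟨b, hb, rfl⟩, ?_⟩
      have hx2' : a * b * a⁻¹ = x := hx2
      change f a * f b * (f a)⁻¹ = f x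
      rw [← hx2', map_mul, map_mul, map_inv]
    rw [h1, Subgroup.mem_bot] at h2
    rw [Subgroup.mem_bot]
    have h3 : x⁻¹ ∈ f.ker := by rw [MonoidHom.mem_ker, map_inv, h2, inv_one]
    have h4 := eq_one_of_mul P.2 hk hc hx1 h3 ⟨0, by rw [pow_zero, pow_one, mul_inv_cancel]⟩
    exact inv_eq_one.1 h4
  · intro h g hg
    obtain ⟨a, rfl⟩ := hf g
    rw [eq_bot_iff]
    rintro y ⟨⟨x, hx, rfl⟩, z, ⟨b, hb, rfl⟩, hz⟩
    have hz' : f a * f b * (f a)⁻¹ = f x := hz
    have h1 := conj_eq_of_map f P.2 hk hc (a := a) hb hx (by rw [← hz', map_mul, map_mul, map_inv])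
    have h2 := h a (fun h3 => hg ((norm_iff f P.2 hk hc a).2 h3))
    have h3 : x ∈ (P : Subgroup A) ⊓ MulAut.conj a • (P : Subgroup A) := ⟨hx, b, hb, h1⟩
    rw [h2, Subgroup.mem_bot] at h3
    rw [h3, map_one]
    exact Subgroup.mem_bot.2 rfl

end

end Cfsg.Agent.H199.TI
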