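import Cfsg.Agent.H155.TI.Defs
import Cfsg.Agent.H681.TI.Cliff
import Cfsg.Agent.H672.RM.Triple
import Cfsg.Agent.H640.Inv1
import Cfsg.Agent.H199.TI.Grp

/-!
# S4819/S4820, row `PSL₃(4)`: character triples (helper199)

* `exists_cov` : the covering group of an invariant character of a normal `p'`-subgroup, with a kernel of order prime to `p`;
* `tset_equiv` : the bijection of a character triple isomorphism, with the degrees;
* `over_iff_over` : the two notions of a character over a linear character of a central subgroup.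
-/

set_option autoImplicit false
set_option linter.style.haveILetI false
set_option linter.unusedSectionVars false

open Cfsg
open scoped Pointwise ComplexConjugate

namespace Cfsg.Agent.H199.TI

open Cfsg.Agent.Characters.Core Cfsg.Agent.H672 Cfsg.Agent.H672.RM Cfsg.Agent.H595.Central

universe u v w

/-- The covering group of an invariant character. -/
theorem exists_cov {T : Type u} [Group T] [Finite T] {K : Type u} [Group K] [Finite K] (i : K →* T)
    (hi : Function.Injective i) (hn : i.range.Normal) {p : ℕ} [hp : Fact p.Prime] (hK : ¬ p ∣ Nat.card K)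
    {θ : K → ℂ} (hθ : IsIrrCharacter K θ) (hinv : ∀ (t : T) (k k' : K), i k' = t * i k * t⁻¹ → θ k' = θ k) :
    ∃ (A : Type u) (_ : Group A) (_ : Finite A) (π : A →* T) (s : K →* A) (χR : A → ℂ),
      Function.Surjective π ∧ π.ker ≤ Subgroup.center A ∧ (∀ k, π (s k) = i k) ∧ s.range.Normal ∧
      IsIrrCharacter A χR ∧ (∀ k, χR (s k) = θ k) ∧ ¬ p ∣ Nat.card π.ker := by
  classical
  haveI := hn
  letI := Fintype.ofFinite i.range
  let e : K ≃* i.range := MonoidHom.ofInjective hi
  have he : ∀ k, ((e k : i.range) : T) = i k := fun k => rfl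
  have hθ' : IsIrrCharacter i.range (θ ∘ e.symm) := isIrr_comp e.symm.toMonoidHom e.symm.surjective hθ
  obtain ⟨n, R, hn0, hR, hRθ⟩ := H640.exists_orth hθ'
  have hinv' : ∀ (g : T) (x : i.range), (R (MulAut.conjNormal g x)).trace = (R x).trace := by
    intro g x
    rw [hRθ, hRθ]
    refine hinv g _ _ ?_
    have h1 : ∀ y : i.range, i (e.symm y) = (y : T) := by
      intro y
      rw [← he, MulEquiv.apply_symm_apply]
    rw [h1, h1, MulAut.conjNormal_apply]
  let D := H640.toI i.range R hR hn0 hinv'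
  haveI hfin : Finite D.Lh := D.finite_Lh
  let s : K →* D.Lh := (H640.nu i.range R hR hn0 hinv').comp e.toMonoidHom
  have hK' : ¬ p ∣ Nat.card i.range := by
    rw [← Nat.card_congr e.toEquiv]; exact hK
  have hsθ : ∀ k, (D.mat (s k)).trace = θ k := by
    intro k
    have h1 : D.mat (s k) = R (e k) := rfl
    rw [h1, hRθ]
    change θ (e.symm (e k)) = θ k
    rw [MulEquiv.symm_apply_apply]
  refine ⟨D.Lh, inferInstance, hfin, D.pr, s, fun a => (D.mat a).trace, D.pr_surjective, D.ker_le_center,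
    fun k => rfl, ?_, ?_, hsθ, D.not_dvd_ker hK'⟩
  · have h1 : s.range = (H640.nu i.range R hR hn0 hinv').range := by
      ext x
      constructor
      · rintro ⟨k, rfl⟩
        exact ⟨e k, rfl⟩
      · rintro ⟨y, rfl⟩
        obtain ⟨k, rfl⟩ := e.surjective y
        exact ⟨k, rfl⟩
    rw [h1]
    exact H640.range_nu_normal i.range R hR hn0 hinv'
  · refine CharactersDeep.MaxInduced.isIrr_of_comp s (H640.isCharacter_trace D.mat) ?_
    have h1 : (fun a => (D.mat a).trace) ∘ s = θ := funext hsθ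
    rw [h1]
    exact hθ

section abs

variable {W A B N : Type u} [Group W] [Group A] [Group B] [Group N] [Finite W] [Finite A] [Finite B]
  [Finite N] {π : W →* A} {m : W →* B} {s : N →* W} {χR : W → ℂ} {θ : N → ℂ} {c : π.ker →* ℂˣ}

/-- **The bijection of a character triple isomorphism.** -/
theorem tset_equiv (h : TSet π m s χR θ c) :
    ∃ F : {β : IrrCharacter B // Over (m.comp π.ker.subtype) (β : B → ℂ) (lf c⁻¹)} ≃
      {χ : IrrCharacter A // Over (π.comp s) (χ : A → ℂ) θ},
      ∀ β, charDegree ((F β).1 : A → ℂ) = charDegree (β.1 : B → ℂ) * charDegree θ := by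
  classical
  letI := Fintype.ofFinite N
  have hdeg : ∀ {χ : A → ℂ} {β : B → ℂ}, IsIrrCharacter A χ → IsIrrCharacter B β →
      (∀ x, χ (π x) = β (m x) * χR x) → charDegree χ = charDegree β * charDegree θ := by
    intro χ β hχ hβ hx
    apply charDegree_of_eq
    have h1 := hx 1
    rw [map_one, map_one] at h1
    have h2 := h.ext 1
    rw [map_one] at h2
    rw [h1, h2, ← coe_charDegree hβ, ← coe_charDegree h.irrθ]
    push_cast; rfl
  have hover : ∀ {χ : A → ℂ} {β : B → ℂ}, IsIrrCharacter B β →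
      (∀ x, χ (π x) = β (m x) * χR x) → Over (π.comp s) χ θ := by
    intro χ β hβ hx
    rw [over_iff]
    have e : χ ∘ (π.comp s) = β 1 • θ := by
      funext n
      change χ (π (s n)) = β 1 * θ n
      have h1 : s n ∈ m.ker := h.range ▸ ⟨n, rfl⟩
      rw [hx, h.ext, MonoidHom.mem_ker.1 h1]
    rw [e, classInner_smul_left, classInner_irr_self h.irrθ, mul_one]
    exact isIrr_apply_one_ne_zero hβ
  let F : {β : IrrCharacter B // Over (m.comp π.ker.subtype) (β : B → ℂ) (lf c⁻¹)} →
      {χ : IrrCharacter A // Over (π.comp s) (χ : A → ℂ) θ} :=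
    fun β => ⟨(h.exists_down β.1.2 β.2).choose, hover β.1.2 (h.exists_down β.1.2 β.2).choose_spec⟩
  have hF : ∀ β x, ((F β).1 : A → ℂ) (π x) = (β.1 : B → ℂ) (m x) * χR x := fun β =>
    (h.exists_down β.1.2 β.2).choose_spec
  have hF1 : Function.Injective F := by
    intro β β' hββ
    apply Subtype.ext
    apply Subtype.ext
    funext b
    obtain ⟨x, rfl⟩ := h.surjm b
    obtain ⟨n, hn, h1⟩ := h.nonvanish x
    have h2 := hF β (n * x)
    rw [hββ, hF β' (n * x), map_mul, MonoidHom.mem_ker.1 hn, one_mul] at h2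
    exact (mul_right_cancel₀ h1 h2).symm
  have hF2 : Function.Surjective F := by
    rintro ⟨χ, h2⟩
    obtain ⟨β, hβ, h3, h4⟩ := h.exists_up χ.2 h2
    refine ⟨⟨⟨β, hβ⟩, h3⟩, ?_⟩
    apply Subtype.ext
    apply Subtype.ext
    funext a
    obtain ⟨x, rfl⟩ := h.surjπ a
    rw [hF, h4]
  exact ⟨Equiv.ofBijective F ⟨hF1, hF2⟩, fun β => hdeg (F β).1.2 β.1.2 (hF β)⟩

end abs

/-- The two notions of a character over a linear character of a central subgroup. -/
theorem over_iff_over {B : Type*} [Group B] [Finite B] {Z₁ : Type*} [Group Z₁] [Finite Z₁] (j₁ : Z₁ →* B)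
    (hj : ∀ z, j₁ z ∈ Subgroup.center B) (l₁ : Z₁ →* ℂˣ) {β : B → ℂ} (hβ : IsIrrCharacter B β)
    (Q : Prop) (h1 : Q → ∀ (z : Z₁), β (j₁ z) = (l₁ z : ℂ) * β 1)
    (h2 : (∀ (z : Z₁) (b : B), β (j₁ z * b) = (l₁ z : ℂ) * β b) → Q) :
    Over j₁ β (lf l₁) ↔ Q := by
  classical
  letI := Fintype.ofFinite B
  letI := Fintype.ofFinite Z₁
  constructor
  · intro h
    apply h2
    intro z b
    have h3 := over_central j₁ hj ⟨β, hβ⟩ l₁ ((over_iff _ _ _).1 h) b z
    rw [← Subgroup.mem_center_iff.1 (hj z) b, mul_comm]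
    exact h3
  · intro h
    rw [over_lin_iff j₁ hj hβ]
    intro z
    rw [h1 h z, mul_comm]

end Cfsg.Agent.H199.TI
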